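import Mathlib.RingTheory.Filtration
import Mathlib.RingTheory.AdicCompletion.Noetherian
import Mathlib.RingTheory.LocalRing.ResidueField.Basic
import Groth.Agent.H02CA.PowerSeries
import Groth.Agent.H24Art.PowerSeries

/-!
Node coordinates in a complete local algebra, by successive approximation.
-/

set_option autoImplicit false
set_option linter.style.haveILetI false
set_option linter.unusedSectionVars false

universe u

open IsLocalRing

namespace Groth.Agent.H02CA.Node

/-- An ideal of a Noetherian local ring is closed. -/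
theorem mem_of_forall_mem_sup_pow {S : Type u} [CommRing S] [IsLocalRing S] [IsNoetherianRing S]
    (J : Ideal S) {x : S} (h : ∀ N, x ∈ J ⊔ maximalIdeal S ^ N) : x ∈ J := by
  rw [← Ideal.Quotient.eq_zero_iff_mem]
  have hH : IsHausdorff (maximalIdeal S) (S ⧸ J) := IsHausdorff.of_isLocalRing (maximalIdeal S) (S ⧸ J) (maximalIdeal.isMaximal S).ne_top
  refine hH.haus _ fun N => ?_
  rw [SModEq.zero]
  obtain ⟨a, ha, b, hb, rfl⟩ := Submodule.mem_sup.1 (h N)
  rw [map_add, Ideal.Quotient.eq_zero_iff_mem.2 ha, zero_add, ← Ideal.Quotient.algebraMap_eq,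
    Algebra.algebraMap_eq_smul_one]
  exact Submodule.smul_mem_smul hb Submodule.mem_top

variable {R S : Type u} [CommRing R] [IsLocalRing R] [IsNoetherianRing R] [CommRing S] [IsLocalRing S]
  [IsNoetherianRing S] [Algebra R S]
  (hres : ∀ s : S, ∃ r : R, algebraMap R S r - s ∈ maximalIdeal S)
  (u v : S) (hgen : maximalIdeal S = Ideal.span {u, v} ⊔ (maximalIdeal R).map (algebraMap R S))

local notation "mS" => Ideal.map (algebraMap R S) (maximalIdeal R)

include hgen in
theorem map_le : mS ≤ maximalIdeal S := hgen.ge.trans' le_sup_right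

include hres hgen in
theorem decomp (s : S) : ∃ (r : R) (a b : S), s - algebraMap R S r - a * u - b * v ∈ mS := by
  obtain ⟨r, hr⟩ := hres s
  have h : s - algebraMap R S r ∈ Ideal.span {u, v} ⊔ mS := by
    rw [← hgen]; simpa using neg_mem hr
  obtain ⟨y, hy, z, hz, e⟩ := Submodule.mem_sup.1 h
  obtain ⟨a, b, rfl⟩ := Ideal.mem_span_pair.1 hy
  refine ⟨r, a, b, ?_⟩
  rw [← e]
  convert hz using 1
  ring

include hres hgen in
theorem decomp_pow (k : ℕ) {e : S} (he : e ∈ mS ^ k) :
    ∃ (a : R) (p q : S), a ∈ maximalIdeal R ^ k ∧ p ∈ mS ^ k ∧ q ∈ mS ^ k ∧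
      e - algebraMap R S a - p * u - q * v ∈ mS ^ (k + 1) := by
  rw [← Ideal.map_pow] at he
  induction he using Submodule.span_induction with
  | mem x hx =>
    obtain ⟨w, hw, rfl⟩ := hx
    exact ⟨w, 0, 0, hw, zero_mem _, zero_mem _, by simp⟩
  | zero => exact ⟨0, 0, 0, zero_mem _, zero_mem _, zero_mem _, by simp⟩
  | add x y _ _ hx hy =>
    obtain ⟨a, p, q, ha, hp, hq, h⟩ := hx
    obtain ⟨a', p', q', ha', hp', hq', h'⟩ := hy
    refine ⟨a + a', p + p', q + q', add_mem ha ha', add_mem hp hp', add_mem hq hq', ?_⟩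
    convert add_mem h h' using 1
    rw [map_add]; ring
  | smul c x _ hx =>
    obtain ⟨a, p, q, ha, hp, hq, h⟩ := hx
    obtain ⟨r, c₁, c₂, hc⟩ := decomp hres u v hgen c
    have haS : algebraMap R S a ∈ mS ^ k := by
      rw [← Ideal.map_pow]; exact Ideal.mem_map_of_mem _ ha
    refine ⟨r * a, c * p + c₁ * algebraMap R S a, c * q + c₂ * algebraMap R S a, Ideal.mul_mem_left _ _ ha,
      add_mem (Ideal.mul_mem_left _ _ hp) (Ideal.mul_mem_left _ _ haS),
      add_mem (Ideal.mul_mem_left _ _ hq) (Ideal.mul_mem_left _ _ haS), ?_⟩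
    have h2 : (c - algebraMap R S r - c₁ * u - c₂ * v) * algebraMap R S a ∈ mS ^ (k + 1) := by
      rw [pow_succ', ]; exact Ideal.mul_mem_mul hc haS
    convert add_mem (Ideal.mul_mem_left _ c h) h2 using 1
    rw [smul_eq_mul, map_mul]; ring

/-- A stage of the approximation. -/
structure Stage (k : ℕ) where
  /-- first coordinate -/
  x : S
  /-- second coordinate -/
  y : S
  /-- the product -/
  α : R
  hx : x - u ∈ mS
  hy : y - v ∈ mS
  hα : α ∈ maximalIdeal R
  hp : x * y - algebraMap R S α ∈ mS ^ (k + 1)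

include hres hgen in
theorem step (k : ℕ) (s : Stage (R := R) u v k) : ∃ t : Stage (R := R) u v (k + 1),
    t.x - s.x ∈ mS ^ (k + 1) ∧ t.y - s.y ∈ mS ^ (k + 1) ∧ t.α - s.α ∈ maximalIdeal R ^ (k + 1) := by
  obtain ⟨a, p, q, ha, hp, hq, h⟩ := decomp_pow hres u v hgen (k + 1) s.hp
  have h1 : ∀ {z : S}, z ∈ mS ^ (k + 1) → z ∈ mS := fun hz => Ideal.pow_le_self (Nat.succ_ne_zero k) hz
  refine ⟨⟨s.x - q, s.y - p, s.α + a, ?_, ?_, ?_, ?_⟩, by simpa using hq, by simpa using hp, by simpa using ha⟩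
  · rw [show s.x - q - u = s.x - u - q by ring]; exact sub_mem s.hx (h1 hq)
  · rw [show s.y - p - v = s.y - v - p by ring]; exact sub_mem s.hy (h1 hp)
  · exact add_mem s.hα (Ideal.pow_le_self (Nat.succ_ne_zero k) ha)
  · have : (s.x - q) * (s.y - p) - algebraMap R S (s.α + a) =
        (s.x * s.y - algebraMap R S s.α - algebraMap R S a - p * u - q * v) -
          p * (s.x - u) - q * (s.y - v) + p * q := by rw [map_add]; ring
    rw [this]
    refine add_mem (sub_mem (sub_mem h ?_) ?_) ?_
    · rw [pow_succ]; exact Ideal.mul_mem_mul hp s.hx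
    · rw [pow_succ]; exact Ideal.mul_mem_mul hq s.hy
    · rw [pow_succ]; exact Ideal.mul_mem_mul hp (h1 hq)

theorem exists_limit {A : Type u} [CommRing A] (I : Ideal A) [IsAdicComplete I A] (f : ℕ → A)
    (hf : ∀ k, f (k + 1) - f k ∈ I ^ k) : ∃ L, ∀ k, L - f k ∈ I ^ k := by
  have hc : ∀ {m n}, m ≤ n → f m ≡ f n [SMOD (I ^ m • ⊤ : Submodule A A)] := by
    intro m n hmn
    induction n, hmn using Nat.le_induction with
    | base => rfl
    | succ n hmn ih =>
      refine ih.trans (SModEq.sub_mem.mpr ?_)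
      rw [smul_eq_mul, Ideal.mul_top, show f n - f (n + 1) = -(f (n + 1) - f n) by ring]
      exact neg_mem (Ideal.pow_le_pow_right hmn (hf n))
  obtain ⟨L, hL⟩ := IsPrecomplete.prec inferInstance hc
  refine ⟨L, fun k => ?_⟩
  have h := hL k
  rw [SModEq.sub_mem, smul_eq_mul, Ideal.mul_top] at h
  simpa using neg_mem h

include hres hgen in
/-- Coordinates whose product comes from the base. -/
theorem exists_coords [IsAdicComplete (maximalIdeal R) R] [IsAdicComplete (maximalIdeal S) S]
    (huv : u * v ∈ mS) :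
    ∃ (x y : S) (α : R), α ∈ maximalIdeal R ∧ x - u ∈ mS ∧ y - v ∈ mS ∧ x * y = algebraMap R S α := by
  choose next h₁ h₂ h₃ using step hres u v hgen
  let s : (k : ℕ) → Stage (R := R) u v k := fun k =>
    Nat.rec (motive := fun k => Stage (R := R) u v k)
      ⟨u, v, 0, by simp, by simp, zero_mem _, by simpa using huv⟩ next k
  have hle : ∀ k, mS ^ k ≤ maximalIdeal S ^ k := fun k => Ideal.pow_right_mono (map_le u v hgen) k
  obtain ⟨x, hx⟩ := exists_limit (maximalIdeal S) (fun k => (s k).x)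
    (fun k => Ideal.pow_le_pow_right (Nat.le_succ k) (hle _ (h₁ k (s k))))
  obtain ⟨y, hy⟩ := exists_limit (maximalIdeal S) (fun k => (s k).y)
    (fun k => Ideal.pow_le_pow_right (Nat.le_succ k) (hle _ (h₂ k (s k))))
  obtain ⟨α, hα⟩ := exists_limit (maximalIdeal R) (fun k => (s k).α)
    (fun k => Ideal.pow_le_pow_right (Nat.le_succ k) (h₃ k (s k)))
  refine ⟨x, y, α, ?_, mem_of_forall_mem_sup_pow _ fun k => ?_, mem_of_forall_mem_sup_pow _ fun k => ?_, ?_⟩
  · have h1 : α - (s 1).α ∈ maximalIdeal R ^ 1 := hα 1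
    rw [pow_one] at h1
    rw [show α = α - (s 1).α + (s 1).α by ring]
    exact add_mem h1 (s 1).hα
  · rw [show x - u = ((s k).x - u) + (x - (s k).x) by ring]
    exact Submodule.add_mem_sup (s k).hx (hx k)
  · rw [show y - v = ((s k).y - v) + (y - (s k).y) by ring]
    exact Submodule.add_mem_sup (s k).hy (hy k)
  · rw [← sub_eq_zero]
    refine IsHausdorff.haus (I := maximalIdeal S) inferInstance _ fun k => ?_
    rw [SModEq.zero, smul_eq_mul, Ideal.mul_top]
    have hα' : algebraMap R S (α - (s k).α) ∈ maximalIdeal S ^ k := by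
      refine hle k ?_
      rw [← Ideal.map_pow]; exact Ideal.mem_map_of_mem _ (hα k)
    have : x * y - algebraMap R S α = ((s k).x * (s k).y - algebraMap R S (s k).α) +
        (x - (s k).x) * y + (s k).x * (y - (s k).y) - algebraMap R S (α - (s k).α) := by
      rw [map_sub]; ring
    rw [this]
    exact sub_mem (add_mem (add_mem (Ideal.pow_le_pow_right (Nat.le_succ k) (hle _ (s k).hp))
      (Ideal.mul_mem_right _ _ (hx k))) (Ideal.mul_mem_left _ _ (hy k))) hα'

include hres hgen in
/-- Surjection from power series in two variables. -/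
theorem exists_surjective [IsAdicComplete (maximalIdeal R) R] [IsAdicComplete (maximalIdeal S) S]
    (x y : S) (hx : x - u ∈ mS) (hy : y - v ∈ mS) (hu : u ∈ maximalIdeal S) (hv : v ∈ maximalIdeal S) :
    ∃ ψ : MvPowerSeries (Fin 2) R →ₐ[R] S, Function.Surjective ψ ∧
      ψ (MvPowerSeries.X 0) = x ∧ ψ (MvPowerSeries.X 1) = y := by
  have hx' : x ∈ maximalIdeal S := by simpa using add_mem (map_le u v hgen hx) hu
  have hy' : y ∈ maximalIdeal S := by simpa using add_mem (map_le u v hgen hy) hv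
  obtain ⟨ψ, hψ⟩ := PS.exists_algHom (R := R) (maximalIdeal S) ![x, y] (fun i => by fin_cases i <;> simp [hx', hy'])
  have h0 : ψ (MvPowerSeries.X 0) = x := by simpa using hψ 0
  have h1 : ψ (MvPowerSeries.X 1) = y := by simpa using hψ 1
  have hgen' : maximalIdeal S = Ideal.span {x, y} ⊔ mS := by
    apply le_antisymm
    · rw [hgen]
      refine sup_le ?_ le_sup_right
      rw [Ideal.span_le]
      rintro z (rfl | rfl)
      · rw [show z = x + -(x - z) by ring]
        exact Submodule.add_mem_sup (Ideal.subset_span (by simp)) (neg_mem hx)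
      · rw [show z = y + -(y - z) by ring]
        exact Submodule.add_mem_sup (Ideal.subset_span (by simp)) (neg_mem hy)
    · refine sup_le ?_ (map_le u v hgen)
      rw [Ideal.span_le]
      rintro z (rfl | rfl) <;> assumption
  have hCm : ∀ r : R, ψ (MvPowerSeries.C r) = algebraMap R S r := fun r => by
    rw [MvPowerSeries.c_eq_algebraMap, AlgHom.commutes]
  have := H24Art.isAdicComplete_mvPowerSeries (R := R) (n := 2)
  refine ⟨ψ, ?_, h0, h1⟩
  have hmem : ∀ f ∈ maximalIdeal (MvPowerSeries (Fin 2) R), ψ f ∈ maximalIdeal S := by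
    intro f hf
    have hc : MvPowerSeries.constantCoeff f ∈ maximalIdeal R := by
      simpa [MvPowerSeries.isUnit_iff_constantCoeff] using hf
    have hvars : f - MvPowerSeries.C (MvPowerSeries.constantCoeff f) ∈ PS.vars (Fin 2) R :=
      PS.mem_vars_iff.2 (by simp)
    have hmap : (PS.vars (Fin 2) R).map ψ ≤ maximalIdeal S := by
      rw [Ideal.map_span, Ideal.span_le]
      rintro _ ⟨_, ⟨i, rfl⟩, rfl⟩
      fin_cases i
      · simpa [h0] using hx'
      · simpa [h1] using hy'
    have := add_mem (hmap (Ideal.mem_map_of_mem ψ hvars)) (hCm _ ▸ map_le u v hgen (Ideal.mem_map_of_mem _ hc))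
    simpa using this
  refine PS.surjective_of_approx ψ.toRingHom (maximalIdeal _) (maximalIdeal S) hmem ?_ ?_
  · intro s
    obtain ⟨r, hr⟩ := hres s
    exact ⟨MvPowerSeries.C r, by simpa [hCm] using hr⟩
  · intro s hs
    rw [hgen'] at hs
    obtain ⟨z, hz, w, hw, rfl⟩ := Submodule.mem_sup.1 hs
    obtain ⟨a, b, rfl⟩ := Ideal.mem_span_pair.1 hz
    obtain ⟨a', ha'⟩ := hres a
    obtain ⟨b', hb'⟩ := hres b
    have hw1 : w ∈ mS ^ 1 := by rwa [pow_one]
    obtain ⟨r, p, q, hr, hp, hq, h⟩ := decomp_pow hres u v hgen 1 hw1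
    have hC : ∀ t ∈ maximalIdeal R, MvPowerSeries.C t ∈ maximalIdeal (MvPowerSeries (Fin 2) R) := fun t ht => by
      simpa [MvPowerSeries.isUnit_iff_constantCoeff] using ht
    have hX : ∀ i, (MvPowerSeries.X i : MvPowerSeries (Fin 2) R) ∈ maximalIdeal _ := fun i => by
      simp [MvPowerSeries.isUnit_iff_constantCoeff]
    refine ⟨MvPowerSeries.C a' * MvPowerSeries.X 0 + MvPowerSeries.C b' * MvPowerSeries.X 1 + MvPowerSeries.C r,
      add_mem (add_mem (Ideal.mul_mem_left _ _ (hX 0)) (Ideal.mul_mem_left _ _ (hX 1)))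
        (hC r (by simpa using hr)), ?_⟩
    simp only [AlgHom.toRingHom_eq_coe, RingHom.coe_coe, map_add, map_mul, hCm, h0, h1]
    rw [show algebraMap R S a' * x + algebraMap R S b' * y + algebraMap R S r - (a * x + b * y + w) =
      (algebraMap R S a' - a) * x + (algebraMap R S b' - b) * y -
        (w - algebraMap R S r - p * u - q * v) - (p * u + q * v) by ring, pow_two]
    have hle2 : (mS ^ 2 : Ideal S) ≤ maximalIdeal S * maximalIdeal S := by
      rw [← pow_two]; exact Ideal.pow_right_mono (map_le u v hgen) 2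
    rw [pow_one] at hp hq
    exact sub_mem (sub_mem (add_mem (Ideal.mul_mem_mul ha' hx') (Ideal.mul_mem_mul hb' hy')) (hle2 h))
      (add_mem (Ideal.mul_mem_mul (map_le u v hgen hp) hu) (Ideal.mul_mem_mul (map_le u v hgen hq) hv))

end Groth.Agent.H02CA.Node
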