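import Groth.Agent.H02CA.Node.Approx
import Groth.Agent.H02CA.CompletionFlat

/-!
Node coordinates in the completion of a local algebra.
-/

set_option autoImplicit false
set_option linter.style.haveILetI false
set_option linter.unusedSectionVars false

universe u

open IsLocalRing

namespace Groth.Agent.H02CA.Node

variable (A B : Type u) [CommRing A] [IsLocalRing A] [IsNoetherianRing A]
  [CommRing B] [IsLocalRing B] [IsNoetherianRing B] [Algebra A B] [IsLocalHom (algebraMap A B)]

local notation "Ah" => AdicCompletion (maximalIdeal A) A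
local notation "Bh" => AdicCompletion (maximalIdeal B) B

/-- The map of completions of a local homomorphism. -/
noncomputable def cmap : Ah →ₐ[A] Bh :=
  AdicCompletion.liftAlgHom (maximalIdeal B)
    (fun k => (Ideal.quotientMapₐ (maximalIdeal B ^ k) (Algebra.ofId A B) (Ideal.map_le_iff_le_comap.mp
      ((Ideal.map_pow (algebraMap A B) _ k).le.trans (Ideal.pow_right_mono (map_maximalIdeal_le _) k)))).comp
      (AdicCompletion.evalₐ (maximalIdeal A) k))
    fun {j k} hle => AlgHom.ext fun x => by
      obtain ⟨x, rfl⟩ : ∃ c, AdicCompletion.mkₐ (maximalIdeal A) c = x := AdicCompletion.mk_surjective _ _ x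
      simp only [AlgHom.comp_apply]
      show Ideal.Quotient.mk _ (algebraMap A B (x.val k)) = Ideal.Quotient.mk _ (algebraMap A B (x.val j))
      have hx := Ideal.Quotient.eq.mp (AdicCompletion.Ideal.mk_eq_mk (maximalIdeal A) hle x)
      rw [Ideal.Quotient.eq, ← map_sub]
      refine Ideal.pow_right_mono (map_maximalIdeal_le (f := algebraMap A B)) j ?_
      rw [← Ideal.map_pow]
      exact Ideal.mem_map_of_mem _ hx

theorem map_max_eq :
    (maximalIdeal Ah).map (cmap A B) = (maximalIdeal A).map (algebraMap A Bh) := by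
  rw [AdicCompletion.maximalIdeal_eq_map]
  refine (Ideal.map_map (algebraMap A Ah) (cmap A B).toRingHom).trans ?_
  exact congrArg (fun f => Ideal.map f (maximalIdeal A)) (cmap A B).comp_algebraMap

theorem map_max_eq' :
    (maximalIdeal A).map (algebraMap A Bh) = ((maximalIdeal A).map (algebraMap A B)).map (algebraMap B Bh) := by
  rw [Ideal.map_map, ← IsScalarTower.algebraMap_eq]

theorem isAdicComplete_completion (C : Type u) [CommRing C] [IsLocalRing C] [IsNoetherianRing C] :
    IsAdicComplete (maximalIdeal (AdicCompletion (maximalIdeal C) C)) (AdicCompletion (maximalIdeal C) C) := by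
  rw [AdicCompletion.maximalIdeal_eq_map]
  exact AdicCompletion.isAdicComplete_self _ (IsNoetherian.noetherian _)

theorem residue_approx (hres : Function.Surjective (ResidueField.map (algebraMap A B))) (s : Bh) :
    ∃ r : Ah, cmap A B r - s ∈ maximalIdeal Bh := by
  obtain ⟨b, hb⟩ : ∃ b : B, algebraMap B Bh b - s ∈ maximalIdeal Bh := by
    obtain ⟨c, hc⟩ := (AdicCompletion.residueField_map_bijective B).2 (residue _ s)
    obtain ⟨b, rfl⟩ := residue_surjective c
    rw [ResidueField.map_residue] at hc
    exact ⟨b, Ideal.Quotient.eq.mp hc⟩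
  obtain ⟨c, hc⟩ := hres (residue B b)
  obtain ⟨a, rfl⟩ := residue_surjective c
  rw [ResidueField.map_residue] at hc
  refine ⟨algebraMap A Ah a, ?_⟩
  have h1 : algebraMap B Bh (algebraMap A B a - b) ∈ maximalIdeal Bh := by
    rw [AdicCompletion.maximalIdeal_eq_map]
    exact Ideal.mem_map_of_mem _ (Ideal.Quotient.eq.mp hc)
  have h2 := add_mem h1 hb
  rw [map_sub, sub_add_sub_cancel, ← IsScalarTower.algebraMap_apply] at h2
  rwa [AlgHom.commutes]

/-- The surjection from the node ring. -/
theorem exists_surjective_node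
    (hres : Function.Surjective (ResidueField.map (algebraMap A B)))
    (u v : B) (hu : u ∈ maximalIdeal B) (hv : v ∈ maximalIdeal B)
    (huv : u * v ∈ (maximalIdeal A).map (algebraMap A B))
    (hgen : maximalIdeal B = Ideal.span {u, v} ⊔ (maximalIdeal A).map (algebraMap A B)) :
    ∃ α : Ah, α ∈ (maximalIdeal A).map (algebraMap A Ah) ∧
      ∃ ψ : MvPowerSeries (Fin 2) Ah →ₐ[A] Bh,
        Function.Surjective ψ ∧
        ψ (MvPowerSeries.X 0 * MvPowerSeries.X 1 - MvPowerSeries.C α) = 0 ∧
        (∀ r, ψ (MvPowerSeries.C r) = cmap A B r) ∧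
        ψ (MvPowerSeries.X 0) - algebraMap B Bh u ∈ (maximalIdeal A).map (algebraMap A Bh) ∧
        ψ (MvPowerSeries.X 1) - algebraMap B Bh v ∈ (maximalIdeal A).map (algebraMap A Bh) := by
  letI : Algebra Ah Bh := (cmap A B).toRingHom.toAlgebra
  haveI : IsScalarTower A Ah Bh := IsScalarTower.of_algebraMap_eq fun a => ((cmap A B).commutes a).symm
  haveI := H05EGA4.isNoetherianRing_adicCompletion A (maximalIdeal A)
  haveI := H05EGA4.isNoetherianRing_adicCompletion B (maximalIdeal B)
  haveI := isAdicComplete_completion A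
  haveI := isAdicComplete_completion B
  have hM : (maximalIdeal Ah).map (algebraMap Ah Bh) = (maximalIdeal A).map (algebraMap A Bh) :=
    map_max_eq A B
  have hmem : ∀ {b : B}, b ∈ maximalIdeal B → algebraMap B Bh b ∈ maximalIdeal Bh := fun hb => by
    rw [AdicCompletion.maximalIdeal_eq_map]; exact Ideal.mem_map_of_mem _ hb
  have hgen' : maximalIdeal Bh = Ideal.span {algebraMap B Bh u, algebraMap B Bh v} ⊔
      (maximalIdeal Ah).map (algebraMap Ah Bh) := by
    rw [hM, map_max_eq', AdicCompletion.maximalIdeal_eq_map]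
    refine (congrArg (Ideal.map (algebraMap B Bh)) hgen).trans ?_
    rw [Ideal.map_sup, Ideal.map_span, Set.image_pair]
  have huv' : algebraMap B Bh u * algebraMap B Bh v ∈ (maximalIdeal Ah).map (algebraMap Ah Bh) := by
    rw [hM, map_max_eq', ← map_mul]
    exact Ideal.mem_map_of_mem _ huv
  obtain ⟨x, y, α, hα, hx, hy, hxy⟩ := exists_coords (R := Ah) (residue_approx A B hres) _ _ hgen' huv'
  obtain ⟨ψ, hψ, h0, h1⟩ :=
    exists_surjective (R := Ah) (residue_approx A B hres) _ _ hgen' x y hx hy (hmem hu) (hmem hv)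
  have hC : ∀ r, ψ (MvPowerSeries.C r) = algebraMap Ah Bh r := fun r => by
    rw [MvPowerSeries.c_eq_algebraMap, AlgHom.commutes]
  refine ⟨α, by rwa [← AdicCompletion.maximalIdeal_eq_map], ψ.restrictScalars A, hψ, ?_, hC, ?_, ?_⟩
  · show ψ _ = 0
    rw [map_sub, map_mul, h0, h1, hC, hxy, sub_self]
  · show ψ _ - _ ∈ _
    rw [h0, ← hM]; exact hx
  · show ψ _ - _ ∈ _
    rw [h1, ← hM]; exact hy

end Groth.Agent.H02CA.Node
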